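import Groth.Agent.SSMod.K807.Iface3
import Groth.Agent.Sga4h.GcGeo641
import Groth.Agent.CurvesB.NodalExist460

/-!
# Opens of the affine line are smooth and nodal families
-/

set_option autoImplicit false
universe u
open CategoryTheory CategoryTheory.Limits AlgebraicGeometry

namespace K294.LineNodal

theorem main : K807.Iface.LineNodal.{u} := by
  intro R _ ℓ
  have h1 := Groth.Agent.Sga4h.GcGeo641.smooth_polynomial R
  have h2 : Spec.map (CommRingCat.ofHom (algebraMap R (Localization.Away ℓ))) =
      Spec.map (CommRingCat.ofHom (algebraMap (Polynomial R) (Localization.Away ℓ))) ≫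
        Spec.map (CommRingCat.ofHom (Polynomial.C : R →+* Polynomial R)) := by
    rw [← Spec.map_comp]
    congr 1
  have h3 : IsOpenImmersion
      (Spec.map (CommRingCat.ofHom (algebraMap (Polynomial R) (Localization.Away ℓ)))) :=
    IsOpenImmersion.of_isLocalization ℓ
  have h4 : SmoothOfRelativeDimension 1
      (Spec.map (CommRingCat.ofHom (algebraMap R (Localization.Away ℓ)))) := by
    rw [h2]
    have h5 : SmoothOfRelativeDimension 0
        (Spec.map (CommRingCat.ofHom (algebraMap (Polynomial R) (Localization.Away ℓ)))) :=
      inferInstance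
    have h6 : SmoothOfRelativeDimension (0 + 1)
      (Spec.map (CommRingCat.ofHom (algebraMap (Polynomial R) (Localization.Away ℓ))) ≫
      Spec.map (CommRingCat.ofHom (Polynomial.C : R →+* Polynomial R))) := inferInstance
    exact h6
  exact ⟨SmoothOfRelativeDimension.smooth 1 _,
    Groth.Agent.CurvesB.NodalExist.isNodalFamily_of_smooth _⟩

end K294.LineNodal
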